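import Mathlib.LinearAlgebra.FreeModule.PID
import Mathlib.LinearAlgebra.FreeModule.StrongRankCondition
import Mathlib.LinearAlgebra.Dimension.Torsion.Finite
import Mathlib.Algebra.Module.Torsion.Basic
import Mathlib.Tactic

/-!
# Cocycles of a cyclic group in the points of a torus over Laurent series

`D` plays the units of `R((s))`, with the valuation, the uniformiser `S`, the root of unity `Z = σ S - S` and a root
`η` of `Z`; a torus split over `R((s))` has points `M →+ D` with the twisted action `v ↦ σ ∘ v ∘ ρ`.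
-/

set_option autoImplicit false
universe u v w

open Finset

noncomputable section

namespace Groth.Agent.LaurTorus

variable {M : Type w} [AddCommGroup M] [Module.Free ℤ M] [Module.Finite ℤ M]

/-- A projector killing the image of `ρ - 1` through which the norm factors. -/
theorem exists_proj (ρ : M →ₗ[ℤ] M) (d : ℕ) (hρ : ρ ^ d = 1) :
    ∃ π : M →ₗ[ℤ] M, π ∘ₗ ρ = π ∧ (∑ i ∈ range d, ρ ^ i) ∘ₗ π = ∑ i ∈ range d, ρ ^ i := by
  let N : M →ₗ[ℤ] M := ∑ i ∈ range d, ρ ^ i
  let Sat : Submodule ℤ M :=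
    { carrier := {x | ∃ j : ℤ, j ≠ 0 ∧ j • x ∈ LinearMap.range (ρ - 1)}
      zero_mem' := ⟨1, one_ne_zero, by simp⟩
      add_mem' := by
        rintro x y ⟨i, hi, hx⟩ ⟨j, hj, hy⟩
        refine ⟨i * j, mul_ne_zero hi hj, ?_⟩
        rw [smul_add, mul_comm i j, mul_smul, mul_comm j i, mul_smul]
        exact add_mem (Submodule.smul_mem _ j hx) (Submodule.smul_mem _ i hy)
      smul_mem' := by
        rintro c x ⟨i, hi, hx⟩
        exact ⟨i, hi, by rw [smul_comm]; exact Submodule.smul_mem _ c hx⟩ }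
  have hker : ∀ x ∈ Sat, N x = 0 := by
    rintro x ⟨j, hj, y, hy⟩
    have h0 : N * (ρ - 1) = 0 := by rw [geom_sum_mul, hρ, sub_self]
    have h1 : j • N x = 0 := by
      rw [← map_zsmul, ← hy]
      exact LinearMap.congr_fun h0 y
    exact (smul_eq_zero.1 h1).resolve_left hj
  have : IsAddTorsionFree (M ⧸ Sat) := by
    refine ⟨fun n hn a b hab => ?_⟩
    obtain ⟨a, rfl⟩ := Sat.mkQ_surjective a
    obtain ⟨b, rfl⟩ := Sat.mkQ_surjective b
    simp only [Submodule.mkQ_apply] at hab ⊢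
    rw [← Submodule.Quotient.mk_smul, ← Submodule.Quotient.mk_smul, Submodule.Quotient.eq, ← smul_sub] at hab
    rw [Submodule.Quotient.eq]
    obtain ⟨j, hj, hj'⟩ := hab
    exact ⟨j * n, mul_ne_zero hj (by exact_mod_cast hn), by rwa [mul_smul, natCast_zsmul]⟩
  have : Module.Free ℤ (M ⧸ Sat) := Module.free_of_finite_type_torsion_free'
  obtain ⟨s, hs⟩ := Module.projective_lifting_property Sat.mkQ LinearMap.id Sat.mkQ_surjective
  have hs' : ∀ q, Sat.mkQ (s q) = q := fun q => LinearMap.congr_fun hs q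
  refine ⟨s ∘ₗ Sat.mkQ, ?_, LinearMap.ext fun x => ?_⟩
  · refine LinearMap.ext fun x => congrArg s ?_
    refine (Submodule.Quotient.eq Sat).2 ⟨1, one_ne_zero, x, ?_⟩
    simp
  · have : N (s (Sat.mkQ x) - x) = 0 := hker _ ((Submodule.Quotient.eq Sat).1 (hs' _))
    rw [map_sub, sub_eq_zero] at this
    exact this

variable {D : Type u} [AddCommGroup D]

omit [Module.Free ℤ M] [Module.Finite ℤ M] in
/-- The telescoping identity behind the vanishing of `d • H¹`. -/
theorem telescope {A : Type*} [AddCommGroup A] (θ : A →+ A) (d : ℕ) (a : A)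
    (h : ∑ i ∈ range d, θ^[i] a = 0) :
    (∑ i ∈ range d, ((d : ℤ) - 1 - i) • θ^[i] a) - θ (∑ i ∈ range d, ((d : ℤ) - 1 - i) • θ^[i] a) = (d : ℤ) • a := by
  have key : ∀ n : ℕ, (∑ i ∈ range n, ((d : ℤ) - 1 - i) • θ^[i] a) - θ (∑ i ∈ range n, ((d : ℤ) - 1 - i) • θ^[i] a)
      = (d : ℤ) • a - ∑ i ∈ range n, θ^[i] a - ((d : ℤ) - n) • θ^[n] a := by
    intro n
    induction n with
    | zero => simp
    | succ n ih =>
      rw [sum_range_succ, sum_range_succ, map_add, map_zsmul, ← Function.iterate_succ_apply' θ n a]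
      rw [show ∀ x y z w : A, (x + y) - (z + w) = (x - z) + (y - w) from fun x y z w => by abel, ih]
      push_cast
      module
  have := key d
  rw [h, sub_zero, sub_self, zero_smul, sub_zero] at this
  exact this

variable (σ : D →+ D) (ρ : M →ₗ[ℤ] M)

/-- The twisted action. -/
def θ : (M →+ D) →+ (M →+ D) where
  toFun v := σ.comp (v.comp ρ.toAddMonoidHom)
  map_zero' := AddMonoidHom.ext fun x => by simp
  map_add' v w := AddMonoidHom.ext fun x => by simp

omit [Module.Free ℤ M] [Module.Finite ℤ M] in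
theorem θ_apply (v : M →+ D) (x : M) : θ σ ρ v x = σ (v (ρ x)) := rfl

omit [Module.Free ℤ M] [Module.Finite ℤ M] in
theorem iterate_θ_apply (v : M →+ D) (i : ℕ) (x : M) : (θ σ ρ)^[i] v x = σ^[i] (v ((ρ ^ i) x)) := by
  induction i generalizing x with
  | zero => simp
  | succ i ih =>
    rw [Function.iterate_succ_apply', θ_apply, ih, Function.iterate_succ_apply']
    rw [pow_succ]
    rfl

variable {E : Type v} [AddCommGroup E]

/-- Every cocycle of the twisted cyclic action is a coboundary. -/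
theorem exists_coboundary (val : D →+ ℤ) (κ : D →+ E) (S Z η : D) (d : ℕ) (hd : 0 < d) (hρ : ρ ^ d = 1)
    (hσS : σ S = S + Z) (hσZ : σ Z = Z) (hση : σ η = η) (hη : (d : ℤ) • η = Z) (hvalσ : ∀ x, val (σ x) = val x)
    (hvalS : val S = 1) (hvalZ : val Z = 0) (hdZ : (d : ℤ) • Z = 0) (hκσ : ∀ x, val x = 0 → κ (σ x) = κ x)
    (hZ : ∀ j : ℤ, j • κ Z = 0 → (d : ℤ) ∣ j) (hdiv : ∀ w, val w = 0 → ∃ c, (d : ℤ) • c = w)
    (htor : ∀ w, (d : ℤ) • w = 0 → ∃ j : ℤ, j • Z = w)
    (a : M →+ D) (ha : ∑ i ∈ range d, (θ σ ρ)^[i] a = 0) : ∃ b : M →+ D, b - θ σ ρ b = a := by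
  classical
  let N : M →ₗ[ℤ] M := ∑ i ∈ range d, ρ ^ i
  have hd0 : (d : ℤ) ≠ 0 := by exact_mod_cast hd.ne'
  have hiterS : ∀ i : ℕ, σ^[i] S = S + (i : ℤ) • Z := by
    intro i
    induction i with
    | zero => simp
    | succ i ih =>
      rw [Function.iterate_succ_apply', ih, map_add, map_zsmul, hσS, hσZ, Nat.cast_succ, add_smul, one_smul]
      abel
  have hiterval : ∀ (i : ℕ) x, val (σ^[i] x) = val x := by
    intro i
    induction i with
    | zero => simp
    | succ i ih => intro x; rw [Function.iterate_succ_apply', hvalσ, ih]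
  have hiterκ : ∀ (i : ℕ) x, val x = 0 → κ (σ^[i] x) = κ x := by
    intro i
    induction i with
    | zero => simp
    | succ i ih => intro x hx; rw [Function.iterate_succ_apply', hκσ _ ((hiterval i x).trans hx), ih x hx]
  have hsum : ∀ (v : M →+ D) x, (∑ i ∈ range d, (θ σ ρ)^[i] v) x = ∑ i ∈ range d, σ^[i] (v ((ρ ^ i) x)) := fun v x => by
    rw [AddMonoidHom.finsetSum_apply]
    exact sum_congr rfl fun i _ => iterate_θ_apply σ ρ v i x
  have hN : ∀ x, N x = ∑ i ∈ range d, (ρ ^ i) x := fun x => LinearMap.sum_apply _ _ _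
  -- the valuation
  let n : M →+ ℤ := val.comp a
  have hnN : ∀ x, n (N x) = 0 := fun x => by
    have := congrArg val (DFunLike.congr_fun ha x)
    rw [hsum, map_sum, AddMonoidHom.zero_apply, map_zero] at this
    rw [hN, map_sum, ← this]
    exact sum_congr rfl fun i _ => (hiterval i _).symm
  let q : M →+ ℤ := ∑ i ∈ range d, ((d : ℤ) - 1 - i) • n.comp (ρ ^ i).toAddMonoidHom
  have hq : ∀ x, q x = ∑ i ∈ range d, ((d : ℤ) - 1 - i) * n ((ρ ^ i) x) := fun x => by
    simp [q, AddMonoidHom.finsetSum_apply]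
  have hqn : ∀ x, q x - q (ρ x) = (d : ℤ) * n x := fun x => by
    let θ' : (M →+ ℤ) →+ (M →+ ℤ) := θ (AddMonoidHom.id ℤ) ρ
    have hit : ∀ (i : ℕ) y, θ'^[i] n y = n ((ρ ^ i) y) := fun i y => by
      rw [iterate_θ_apply]
      have : (⇑(AddMonoidHom.id ℤ))^[i] = id := Function.iterate_id i
      exact congrFun this _
    have h := DFunLike.congr_fun (telescope θ' d n (AddMonoidHom.ext fun y => by
      rw [AddMonoidHom.finsetSum_apply, AddMonoidHom.zero_apply, ← hnN y, hN, map_sum]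
      exact sum_congr rfl fun i _ => hit i y)) x
    simp only [AddMonoidHom.sub_apply, θ', θ_apply, AddMonoidHom.id_apply, AddMonoidHom.finsetSum_apply,
      AddMonoidHom.smul_apply, smul_eq_mul] at h
    rw [hq, hq]
    have hit' : ∀ (i : ℕ) y, (θ (AddMonoidHom.id ℤ) ρ)^[i] n y = n ((ρ ^ i) y) := hit
    simp only [hit'] at h
    exact h
  obtain ⟨π, hπρ, hNπ⟩ := exists_proj ρ d hρ
  have hπd : ∀ x, (d : ℤ) ∣ q x - q (π x) := fun x => by
    refine hZ _ ?_
    let w : M →+ E := κ.comp (a - ((zmultiplesHom D S).comp n))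
    have key : ∀ y, w (N y) = q y • κ Z := fun y => by
      have h := congrArg κ (DFunLike.congr_fun ha y)
      rw [hsum, map_sum, AddMonoidHom.zero_apply, map_zero] at h
      have e : ∀ i : ℕ, κ (σ^[i] (a ((ρ ^ i) y))) = w ((ρ ^ i) y) + n ((ρ ^ i) y) • κ S +
          ((i : ℤ) * n ((ρ ^ i) y)) • κ Z := fun i => by
        have e1 : σ^[i] (a ((ρ ^ i) y)) = σ^[i] (a ((ρ ^ i) y) - n ((ρ ^ i) y) • S) + n ((ρ ^ i) y) • σ^[i] S := by
          rw [iterate_map_sub, iterate_map_zsmul, sub_add_cancel]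
        have hv : val (a ((ρ ^ i) y) - n ((ρ ^ i) y) • S) = 0 := by
          rw [map_sub, map_zsmul, hvalS, smul_eq_mul, mul_one]
          exact sub_self _
        rw [e1, hiterS, map_add, hiterκ _ _ hv, map_zsmul, map_add, map_zsmul, smul_add, smul_smul, ← add_assoc,
          mul_comm (i : ℤ)]
        simp [w]
      simp only [e, sum_add_distrib, ← Finset.sum_smul, ← map_sum] at h
      rw [← hN] at h
      have hc : ∑ i ∈ range d, (i : ℤ) * n ((ρ ^ i) y) = - q y := by
        rw [hq, ← sum_neg_distrib]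
        have h0 : ∑ i ∈ range d, n ((ρ ^ i) y) = 0 := by rw [← map_sum, ← hN, hnN]
        rw [← sub_eq_zero, ← sum_sub_distrib]
        calc ∑ i ∈ range d, ((i : ℤ) * n ((ρ ^ i) y) - -(((d : ℤ) - 1 - i) * n ((ρ ^ i) y)))
            = ∑ i ∈ range d, ((d : ℤ) - 1) * n ((ρ ^ i) y) := sum_congr rfl fun i _ => by ring
          _ = 0 := by rw [← mul_sum, h0, mul_zero]
      rw [hnN, zero_smul, add_zero, hc, neg_smul, ← sub_eq_add_neg, sub_eq_zero] at h
      exact h
    rw [sub_smul, ← key, ← key, sub_eq_zero, show N (π x) = N x from LinearMap.congr_fun hNπ x]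
  let m : M →+ ℤ :=
    { toFun := fun x => (q x - q (π x)) / d
      map_zero' := by simp
      map_add' := fun x y => by
        refine mul_left_cancel₀ hd0 ?_
        rw [Int.mul_ediv_cancel' (hπd _), mul_add, Int.mul_ediv_cancel' (hπd _), Int.mul_ediv_cancel' (hπd _),
          map_add, map_add, map_add]
        abel }
  have hm : ∀ x, m x - m (ρ x) = n x := fun x => by
    refine mul_left_cancel₀ hd0 ?_
    show (d : ℤ) * ((q x - q (π x)) / d - (q (ρ x) - q (π (ρ x))) / d) = (d : ℤ) * n x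
    rw [mul_sub, Int.mul_ediv_cancel' (hπd _), Int.mul_ediv_cancel' (hπd _),
      show π (ρ x) = π x from LinearMap.congr_fun hπρ x, ← hqn]
    ring
  let b₀ : M →+ D := (zmultiplesHom D S).comp m
  let a₁ : M →+ D := a - (b₀ - θ σ ρ b₀)
  have hiter_sub : ∀ (i : ℕ) (v v' : M →+ D), (θ σ ρ)^[i] (v - v') = (θ σ ρ)^[i] v - (θ σ ρ)^[i] v' :=
    fun i v v' => iterate_map_sub (θ σ ρ) i v v'
  have hθd : ∀ v : M →+ D, (∀ x, σ^[d] (v x) = v x) → ∑ i ∈ range d, (θ σ ρ)^[i] (v - θ σ ρ v) = 0 := fun v hv => by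
    simp only [hiter_sub, ← Function.iterate_succ_apply]
    rw [sum_range_sub' (fun i => (θ σ ρ)^[i] v) d, Function.iterate_zero_apply, sub_eq_zero]
    refine AddMonoidHom.ext fun x => ?_
    rw [iterate_θ_apply, hρ]
    exact (hv x).symm
  have hσdS : σ^[d] S = S := by
    rw [hiterS, hdZ, add_zero]
  have hval1 : ∀ x, val (a₁ x) = 0 := fun x => by
    have := hm x
    simp [n] at this
    simp [a₁, b₀, θ_apply, hvalσ, hvalS, this]
  have ha₁ : ∑ i ∈ range d, (θ σ ρ)^[i] a₁ = 0 := by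
    simp only [a₁, hiter_sub, sum_sub_distrib, ha, zero_sub, neg_eq_zero]
    have := hθd b₀ fun x => by
      show σ^[d] (m x • S) = m x • S
      rw [iterate_map_zsmul, hσdS]
    simp only [hiter_sub, sum_sub_distrib] at this
    exact this
  -- roots
  let b₁ : M →+ D := ∑ i ∈ range d, ((d : ℤ) - 1 - i) • (θ σ ρ)^[i] a₁
  have hb₁ : b₁ - θ σ ρ b₁ = (d : ℤ) • a₁ := telescope (θ σ ρ) d a₁ ha₁
  have hvb₁ : ∀ x, val (b₁ x) = 0 := fun x => by
    simp [b₁, AddMonoidHom.finsetSum_apply, iterate_θ_apply, hiterval, hval1]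
  let bM := Module.Free.chooseBasis ℤ M
  choose c₀ hc₀ using fun i => hdiv _ (hvb₁ (bM i))
  let c : M →+ D := (bM.constr ℤ c₀).toAddMonoidHom
  have hc : (d : ℤ) • c = b₁ := by
    have : (d : ℤ) • bM.constr ℤ c₀ = b₁.toIntLinearMap := bM.ext fun i => by
      rw [LinearMap.smul_apply, Module.Basis.constr_basis]
      exact hc₀ i
    exact AddMonoidHom.ext fun x => LinearMap.congr_fun this x
  let ε : M →+ D := a₁ - (c - θ σ ρ c)
  have hε : ∀ x, (d : ℤ) • ε x = 0 := fun x => by
    have : (d : ℤ) • ε = 0 := by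
      rw [show ε = a₁ - (c - θ σ ρ c) from rfl, smul_sub, smul_sub (d : ℤ) c, ← map_zsmul, hc, hb₁, sub_self]
    exact DFunLike.congr_fun this x
  choose e₀ he₀ using fun i => htor _ (hε (bM i))
  let e : M →+ ℤ := (bM.constr ℤ e₀).toAddMonoidHom
  have he : ∀ x, ε x = e x • Z := fun x => by
    have : ε.toIntLinearMap = (LinearMap.toSpanSingleton ℤ D Z) ∘ₗ bM.constr ℤ e₀ := bM.ext fun i => by
      rw [LinearMap.comp_apply, Module.Basis.constr_basis, LinearMap.toSpanSingleton_apply]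
      exact (he₀ i).symm
    exact LinearMap.congr_fun this x
  have hσdη : σ^[d] η = η := Function.iterate_fixed hση d
  have hiterZ : ∀ i : ℕ, σ^[i] Z = Z := fun i => Function.iterate_fixed hσZ i
  have heN : ∀ x, (d : ℤ) ∣ e (N x) := fun x => by
    refine hZ _ ?_
    have h := congrArg κ (DFunLike.congr_fun ha₁ x)
    rw [hsum, map_sum, AddMonoidHom.zero_apply, map_zero] at h
    simp only [hiterκ _ _ (hval1 _), ← map_sum, ← hN] at h
    have hvc : val (c (N x)) = 0 := by
      refine mul_left_cancel₀ hd0 ?_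
      rw [← smul_eq_mul, ← map_zsmul, show (d : ℤ) • c (N x) = b₁ (N x) from DFunLike.congr_fun hc (N x), hvb₁, mul_zero]
    have h' : κ (ε (N x)) = 0 := by
      simp only [ε, AddMonoidHom.sub_apply, θ_apply, map_sub, h]
      have : ρ (N x) = N x := by
        have h0 : (ρ - 1) * N = 0 := by rw [mul_geom_sum, hρ, sub_self]
        have := LinearMap.congr_fun h0 x
        simpa [sub_eq_zero] using this
      rw [this, hκσ _ hvc]
      abel
    rw [he, map_zsmul] at h'
    exact h'
  let z : M →+ ℤ :=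
    { toFun := fun x => e (N x) / d
      map_zero' := by simp
      map_add' := fun x y => by
        refine mul_left_cancel₀ hd0 ?_
        rw [Int.mul_ediv_cancel' (heN _), mul_add, Int.mul_ediv_cancel' (heN _), Int.mul_ediv_cancel' (heN _),
          map_add, map_add] }
  have hzρ : ∀ x, z (ρ x) = z x := fun x => by
    show e (N (ρ x)) / (d : ℤ) = e (N x) / d
    have h0 : N * (ρ - 1) = 0 := by rw [geom_sum_mul, hρ, sub_self]
    have := LinearMap.congr_fun h0 x
    simp [sub_eq_zero] at this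
    rw [this]
  let e' : M →+ ℤ := e - z
  have he'N : ∀ x, e' (N x) = 0 := fun x => by
    have h1 : z (N x) = (d : ℤ) * z x := by
      rw [hN, map_sum]
      have : ∀ (i : ℕ), z ((ρ ^ i) x) = z x := by
        intro i
        induction i with
        | zero => simp
        | succ i ih => rw [pow_succ', Module.End.mul_apply, hzρ, ih]
      simp [this]
    show e (N x) - z (N x) = 0
    rw [h1, sub_eq_zero]
    exact (Int.mul_ediv_cancel' (heN x)).symm
  let q' : M →+ ℤ := ∑ i ∈ range d, ((d : ℤ) - 1 - i) • e'.comp (ρ ^ i).toAddMonoidHom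
  have hq' : ∀ x, q' x - q' (ρ x) = (d : ℤ) * e' x := fun x => by
    let θ' : (M →+ ℤ) →+ (M →+ ℤ) := θ (AddMonoidHom.id ℤ) ρ
    have hit : ∀ (i : ℕ) y, (θ (AddMonoidHom.id ℤ) ρ)^[i] e' y = e' ((ρ ^ i) y) := fun i y => by
      rw [iterate_θ_apply]
      exact congrFun (Function.iterate_id i) _
    have h := DFunLike.congr_fun (telescope (θ (AddMonoidHom.id ℤ) ρ) d e' (AddMonoidHom.ext fun y => by
      rw [AddMonoidHom.finsetSum_apply, AddMonoidHom.zero_apply, ← he'N y, hN, map_sum]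
      exact sum_congr rfl fun i _ => hit i y)) x
    simp only [AddMonoidHom.sub_apply, θ_apply, AddMonoidHom.id_apply, AddMonoidHom.finsetSum_apply,
      AddMonoidHom.smul_apply, smul_eq_mul, hit] at h
    simp only [q', AddMonoidHom.finsetSum_apply, AddMonoidHom.smul_apply, smul_eq_mul, AddMonoidHom.comp_apply,
      LinearMap.toAddMonoidHom_coe]
    exact h
  refine ⟨b₀ + c + ((zmultiplesHom D η).comp q' - (zmultiplesHom D S).comp z), AddMonoidHom.ext fun x => ?_⟩
  have hεx : (q' x • η - q' (ρ x) • η) + z x • Z = ε x := by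
    rw [← sub_smul, hq', mul_comm, mul_smul, hη, ← add_smul, he]
    congr 1
    exact sub_add_cancel (e x) (z x)
  have ht : a x = (b₀ x - σ (b₀ (ρ x))) + (c x - σ (c (ρ x))) + ε x := by
    simp only [ε, a₁, AddMonoidHom.sub_apply, θ_apply]
    abel
  rw [ht, ← hεx]
  simp only [AddMonoidHom.sub_apply, AddMonoidHom.add_apply, θ_apply, AddMonoidHom.comp_apply, zmultiplesHom_apply,
    map_sub, map_add, map_zsmul, hση, hσS, hzρ, smul_add]
  abel

end Groth.Agent.LaurTorus
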