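import Groth.Agent.S15750
import Groth.Prelude.Def_HTop2
import Mathlib

/-!
# Laurent series over a strictly henselian seminormal ring and the substitution `t ↦ t ^ d`
-/

set_option autoImplicit false

universe u

open HahnSeries

noncomputable section

namespace Groth.Agent.LaurTorus

variable {R : Type u} [CommRing R] (d : ℕ) (hinj : Function.Injective (AddMonoidHom.mulLeft (d : ℤ)))
  (hmono : ∀ g g' : ℤ, AddMonoidHom.mulLeft (d : ℤ) g ≤ AddMonoidHom.mulLeft (d : ℤ) g' ↔ g ≤ g')

/-- The substitution `t ↦ t ^ d`. -/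
abbrev phi : LaurentSeries R →+* LaurentSeries R :=
  HahnSeries.embDomainRingHom (AddMonoidHom.mulLeft (d : ℤ)) hinj hmono

theorem phi_coeff_mul (f : LaurentSeries R) (n : ℤ) : (phi d hinj hmono f).coeff ((d : ℤ) * n) = f.coeff n :=
  embDomain_coeff (f := ⟨⟨AddMonoidHom.mulLeft (d : ℤ), hinj⟩, hmono _ _⟩)

theorem phi_coeff_of_not_dvd (f : LaurentSeries R) (n : ℤ) (h : ¬ (d : ℤ) ∣ n) :
    (phi d hinj hmono f).coeff n = 0 :=
  embDomain_of_notMem_range (f := ⟨⟨AddMonoidHom.mulLeft (d : ℤ), hinj⟩, hmono _ _⟩)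
    (by rintro ⟨m, rfl⟩; exact h ⟨m, rfl⟩)

/-- Multiply the coefficient of `s ^ n` by `z ^ n`. -/
def sigFun (z : Rˣ) (f : LaurentSeries R) : LaurentSeries R where
  coeff n := ((z ^ n : Rˣ) : R) * f.coeff n
  isPWO_support' := f.isPWO_support.mono fun n hn => by
    simp only [Function.mem_support, ne_eq] at hn
    exact fun h => hn (by rw [h, mul_zero])

theorem sigFun_coeff (z : Rˣ) (f : LaurentSeries R) (n : ℤ) :
    (sigFun z f).coeff n = ((z ^ n : Rˣ) : R) * f.coeff n := rfl

/-- The substitution `s ↦ z s`. -/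
def sig (z : Rˣ) : LaurentSeries R →+* LaurentSeries R where
  toFun := sigFun z
  map_one' := HahnSeries.ext (funext fun n => by
    rw [sigFun_coeff, HahnSeries.coeff_one]
    split_ifs with h <;> simp [h])
  map_zero' := HahnSeries.ext (funext fun n => by simp [sigFun_coeff])
  map_add' f g := HahnSeries.ext (funext fun n => by simp [sigFun_coeff, mul_add])
  map_mul' f g := HahnSeries.ext (funext fun n => by
    rw [sigFun_coeff, coeff_mul, coeff_mul, Finset.mul_sum]
    refine (Finset.sum_congr ?_ fun ij _ => rfl).trans (Finset.sum_congr rfl fun ij hij => ?_) |>.symm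
    · ext ij
      simp [Finset.mem_antidiagonal, sigFun_coeff, Units.mul_right_eq_zero]
    · have h : ij.1 + ij.2 = n := by simp [Finset.mem_antidiagonal] at hij; exact hij.2.2
      rw [sigFun_coeff, sigFun_coeff, ← h, zpow_add, Units.val_mul]
      ring)

theorem sig_coeff (z : Rˣ) (f : LaurentSeries R) (n : ℤ) :
    (sig z f).coeff n = ((z ^ n : Rˣ) : R) * f.coeff n := rfl

theorem sig_iterate_coeff (z : Rˣ) (f : LaurentSeries R) (i : ℕ) (n : ℤ) :
    ((⇑(sig z))^[i] f).coeff n = ((z ^ (n * i) : Rˣ) : R) * f.coeff n := by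
  induction i with
  | zero => simp
  | succ i ih =>
    rw [Function.iterate_succ_apply', sig_coeff, ih, ← mul_assoc, ← Units.val_mul, ← zpow_add]
    congr 3
    push_cast
    ring

theorem sig_iterate {z : Rˣ} (hz : z ^ d = 1) (f : LaurentSeries R) : (⇑(sig z))^[d] f = f := by
  refine HahnSeries.ext (funext fun n => ?_)
  rw [sig_iterate_coeff, mul_comm n, zpow_mul, zpow_natCast, hz, one_zpow]
  simp

theorem sig_comp_phi {z : Rˣ} (hz : z ^ d = 1) : (sig z).comp (phi d hinj hmono) = phi d hinj hmono := by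
  refine RingHom.ext fun f => HahnSeries.ext (funext fun n => ?_)
  rw [RingHom.comp_apply, sig_coeff]
  by_cases h : (d : ℤ) ∣ n
  · obtain ⟨m, rfl⟩ := h
    rw [zpow_mul, zpow_natCast, hz, one_zpow]
    simp
  · rw [phi_coeff_of_not_dvd d hinj hmono f n h, mul_zero]

/-- Extract the coefficients along an arithmetic progression. -/
def ext0 (hd : 0 < d) (j : ℤ) (f : LaurentSeries R) : LaurentSeries R :=
  HahnSeries.ofSuppBddBelow (fun n => f.coeff ((d : ℤ) * n + j)) ⟨min 0 (f.order - j), fun n hn => by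
    have h1 : f.order ≤ (d : ℤ) * n + j := order_le_of_coeff_ne_zero hn
    by_cases h : 0 ≤ n
    · exact le_trans (min_le_left _ _) h
    · refine le_trans (min_le_right _ _) ?_
      have h2 : (d : ℤ) * n ≤ n := by nlinarith
      omega⟩

theorem ext0_coeff (hd : 0 < d) (j : ℤ) (f : LaurentSeries R) (n : ℤ) :
    (ext0 d hd j f).coeff n = f.coeff ((d : ℤ) * n + j) := rfl

/-- The fixed elements of `s ↦ z s`. -/
theorem exists_phi_eq (hd : 0 < d) {z : Rˣ} (hz : z ^ d = 1)
    (hprim : ∀ j : ℕ, 0 < j → j < d → IsUnit ((z : R) ^ j - 1)) (f : LaurentSeries R) (hf : sig z f = f) :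
    ∃ g, phi d hinj hmono g = f := by
  refine ⟨ext0 d hd 0 f, HahnSeries.ext (funext fun n => ?_)⟩
  by_cases h : (d : ℤ) ∣ n
  · obtain ⟨m, rfl⟩ := h
    rw [phi_coeff_mul, ext0_coeff, add_zero]
  · rw [phi_coeff_of_not_dvd d hinj hmono _ n h]
    obtain ⟨j, hj⟩ : ∃ j : ℕ, n % (d : ℤ) = j := ⟨(n % (d : ℤ)).toNat, (Int.toNat_of_nonneg
      (Int.emod_nonneg n (by omega))).symm⟩
    have hjd : j < d := by have := Int.emod_lt_of_pos n (show (0 : ℤ) < d by omega); omega
    have hj0 : 0 < j := by
      rcases Nat.eq_zero_or_pos j with h0 | h0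
      · exact absurd (Int.dvd_of_emod_eq_zero (by rw [hj, h0]; rfl)) h
      · exact h0
    have hzn : z ^ n = z ^ j := by
      conv_lhs => rw [← Int.emod_add_mul_ediv n (d : ℤ), hj, zpow_add, zpow_mul, zpow_natCast, zpow_natCast, hz,
        one_zpow, mul_one]
    have := congrArg (fun q : LaurentSeries R => q.coeff n) hf
    simp only [sig_coeff, hzn, Units.val_pow_eq_pow_val] at this
    exact ((hprim j hj0 hjd).mul_right_eq_zero.1 (by rw [sub_mul, this, one_mul, sub_self])).symm

/-- A ring map along which the target has a finite basis is faithfully flat. -/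
theorem faithfullyFlat_of_basis {A B : Type u} [CommRing A] [CommRing B] [Nontrivial B] (f : A →+* B) {n : Type}
    [Fintype n] (b : n → B) (h : Function.Bijective fun c : n → A => ∑ i, f (c i) * b i) : f.FaithfullyFlat := by
  algebraize [f]
  have hF : (Fintype.linearCombination A b : (n → A) → B) = fun c => ∑ i, f (c i) * b i := funext fun c => by
    simp [Fintype.linearCombination_apply, Algebra.smul_def, RingHom.algebraMap_toAlgebra]
  haveI : Module.Free A B := Module.Free.of_equiv (LinearEquiv.ofBijective (Fintype.linearCombination A b) (hF ▸ h))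
  exact RingHom.faithfullyFlat_algebraMap_iff.2 inferInstance

/-- The substitution is faithfully flat. -/
theorem faithfullyFlat_phi (hd : 0 < d) [Nontrivial R] : (phi (R := R) d hinj hmono).FaithfullyFlat := by
  classical
  let b : Fin d → LaurentSeries R := fun i => single (i.1 : ℤ) (1 : R)
  have hcoeff : ∀ (c : Fin d → LaurentSeries R) (m : ℤ) (j : Fin d),
      (∑ i, phi d hinj hmono (c i) * b i).coeff ((d : ℤ) * m + j.1) = (c j).coeff m := by
    intro c m j
    rw [HahnSeries.coeff_sum, Finset.sum_eq_single j]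
    · rw [mul_comm, coeff_single_mul, one_mul, add_sub_cancel_right, phi_coeff_mul]
    · intro i _ hij
      rw [mul_comm, coeff_single_mul, one_mul, phi_coeff_of_not_dvd]
      rintro ⟨k, hk⟩
      apply hij
      have hi := i.2
      have hj := j.2
      have h1 : (d : ℤ) ∣ (j.1 : ℤ) - i.1 := ⟨k - m, by rw [mul_sub, ← hk]; ring⟩
      exact Fin.ext (by
        have := Int.eq_zero_of_abs_lt_dvd h1 (abs_lt.2 ⟨by omega, by omega⟩)
        omega)
    · simp
  have hbij : Function.Bijective fun c : Fin d → LaurentSeries R => ∑ i, phi d hinj hmono (c i) * b i := by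
    constructor
    · intro c c' h
      funext j
      refine HahnSeries.ext (funext fun m => ?_)
      rw [← hcoeff c m j, ← hcoeff c' m j]
      exact congrArg (fun q : LaurentSeries R => q.coeff _) h
    · intro f
      refine ⟨fun i => ext0 d hd i.1 f, HahnSeries.ext (funext fun n => ?_)⟩
      rw [← Int.mul_ediv_add_emod n (d : ℤ)]
      obtain ⟨j, hj⟩ : ∃ j : Fin d, n % (d : ℤ) = j.1 := by
        have h1 := Int.emod_nonneg n (show (d : ℤ) ≠ 0 by omega)
        have h2 := Int.emod_lt_of_pos n (show (0 : ℤ) < d by omega)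
        exact ⟨⟨(n % (d : ℤ)).toNat, by omega⟩, by simp; omega⟩
      rw [hj]
      show (∑ i, phi d hinj hmono _ * b i).coeff _ = _
      rw [hcoeff, ext0_coeff]
  exact faithfullyFlat_of_basis _ b hbij

theorem isReduced_of_seminormal (h : HTop.IsSeminormalRing R) : IsReduced R := by
  rw [isReduced_iff_pow_one_lt 2 one_lt_two]
  intro x hx
  obtain ⟨a, -, hu⟩ := h 0 0 (by simp)
  rw [hu x ⟨hx.symm, by rw [pow_succ, hx, zero_mul]⟩, ← hu 0 ⟨by simp, by simp⟩]

/-- Laurent series over a reduced ring without idempotents have no idempotents. -/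
theorem idempotent_eq [IsReduced R] (hconn : ∀ e : R, IsIdempotentElem e → e = 0 ∨ e = 1)
    (e : LaurentSeries R) (he : IsIdempotentElem e) : e = 0 ∨ e = 1 := by
  have key : ∀ f : LaurentSeries R, IsIdempotentElem f → f.coeff 0 = 0 → f = 0 := by
    intro f hf h0
    by_contra hne
    have hn := mt HahnSeries.coeff_order_eq_zero.1 hne
    have h2 := coeff_mul_order_add_order f f
    rw [hf.eq, HahnSeries.leadingCoeff_eq] at h2
    rcases lt_trichotomy f.order 0 with h | h | h
    · rw [coeff_eq_zero_of_lt_order (by omega)] at h2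
      exact hn (IsReduced.eq_zero _ ⟨2, by rw [pow_two]; exact h2.symm⟩)
    · exact hn (h ▸ h0)
    · have h3 : (f * f).coeff f.order = 0 := by
        rw [HahnSeries.coeff_mul]
        refine Finset.sum_eq_zero fun ij hij => ?_
        simp only [Finset.mem_antidiagonal, HahnSeries.mem_support] at hij
        have h4 := order_le_of_coeff_ne_zero hij.1
        have h5 := order_le_of_coeff_ne_zero hij.2.1
        omega
      exact hn (by rwa [hf.eq] at h3)
  have hneg : ∀ i < 0, e.coeff i = 0 := by
    intro i hi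
    by_contra hne
    have hne' : e ≠ 0 := fun h => hne (by simp [h])
    have h := order_le_of_coeff_ne_zero hne
    have h2 := coeff_mul_order_add_order e e
    rw [he.eq, HahnSeries.leadingCoeff_eq, coeff_eq_zero_of_lt_order (by omega)] at h2
    exact mt HahnSeries.coeff_order_eq_zero.1 hne' (IsReduced.eq_zero _ ⟨2, by rw [pow_two]; exact h2.symm⟩)
  have h0 : IsIdempotentElem (e.coeff 0) := by
    show _ * _ = _
    conv_rhs => rw [← he.eq, HahnSeries.coeff_mul]
    symm
    refine Finset.sum_eq_single (0, 0) (fun ij hij hne => ?_) (fun h => ?_)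
    · simp only [Finset.mem_antidiagonal, HahnSeries.mem_support] at hij
      have h1 : 0 ≤ ij.1 := not_lt.1 fun h => hij.1 (hneg _ h)
      have h2 : 0 ≤ ij.2 := not_lt.1 fun h => hij.2.1 (hneg _ h)
      exact absurd (Prod.ext (by omega) (by omega)) hne
    · simp only [Finset.mem_antidiagonal, HahnSeries.mem_support, add_zero, and_true, not_and_or, not_not, or_self] at h
      simp [h]
  rcases hconn _ h0 with h | h
  · exact Or.inl (key e he h)
  · exact Or.inr (sub_eq_zero.1 (key _ he.one_sub (by simp [h]))).symm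

section Units

variable [HenselianLocalRing R]

theorem isIdempotentElem_local (e : R) (he : IsIdempotentElem e) : e = 0 ∨ e = 1 :=
  (IsLocalRing.isUnit_or_isUnit_one_sub_self e).symm.imp
    (fun h => h.mul_left_eq_zero.1 (by rw [mul_sub, mul_one, he.eq, sub_self]))
    (fun h => h.mul_eq_left.1 he.eq)

variable [IsSepClosed (IsLocalRing.ResidueField R)] (hdu : IsUnit (d : R))

include hdu in
theorem exists_root_const (hd : 0 < d) {c : R} (hc : IsUnit c) (r₀ : R)
    (hr : r₀ ^ d - c ∈ IsLocalRing.maximalIdeal R) :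
    ∃ r, r ^ d = c ∧ r - r₀ ∈ IsLocalRing.maximalIdeal R := by
  obtain ⟨r, hr1, hr2⟩ := HenselianLocalRing.is_henselian (Polynomial.X ^ d - Polynomial.C c)
    (Polynomial.monic_X_pow_sub_C c hd.ne') r₀ (by simpa using hr) (by
      simp only [Polynomial.derivative_sub, Polynomial.derivative_X_pow, Polynomial.derivative_C, sub_zero,
        Polynomial.eval_mul, Polynomial.eval_pow, Polynomial.eval_X, Polynomial.eval_C]
      refine hdu.mul (IsUnit.pow _ ?_)
      have h : IsUnit (r₀ ^ d) := by
        by_contra h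
        exact (IsLocalRing.mem_maximalIdeal c).1 (by
          simpa using sub_mem ((IsLocalRing.mem_maximalIdeal (r₀ ^ d)).2 h) hr) hc
      exact (isUnit_pow_iff hd.ne').1 h)
  exact ⟨r, by simpa [sub_eq_zero] using hr1, hr2⟩

include hdu in
theorem exists_root (hd : 0 < d) {c : R} (hc : IsUnit c) : ∃ r, r ^ d = c := by
  haveI : NeZero (d : IsLocalRing.ResidueField R) := ⟨by
    simpa [map_natCast] using (hdu.map (IsLocalRing.residue R)).ne_zero⟩
  obtain ⟨r₁, h₁⟩ := IsSepClosed.exists_pow_nat_eq (IsLocalRing.residue R c) d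
  obtain ⟨r₀, rfl⟩ := IsLocalRing.residue_surjective r₁
  obtain ⟨r, hr, -⟩ := exists_root_const d hdu hd hc r₀
    ((IsLocalRing.residue_eq_zero_iff _).1 (by rw [map_sub, map_pow, h₁, sub_self]))
  exact ⟨r, hr⟩

include hdu in
theorem exists_primitive (hd : 0 < d) :
    ∃ z : Rˣ, z ^ d = 1 ∧ (∀ j : ℕ, 0 < j → j < d → IsUnit ((z : R) ^ j - 1)) ∧
      ∀ r : R, r ^ d = 1 → ∃ j : ℤ, ((z ^ j : Rˣ) : R) = r := by
  haveI : NeZero (d : IsLocalRing.ResidueField R) := ⟨by
    simpa [map_natCast] using (hdu.map (IsLocalRing.residue R)).ne_zero⟩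
  haveI : NeZero d := ⟨hd.ne'⟩
  obtain ⟨ζ₁, hζ⟩ := HasEnoughRootsOfUnity.exists_primitiveRoot (IsLocalRing.ResidueField R) d
  obtain ⟨ζ₀, rfl⟩ := IsLocalRing.residue_surjective ζ₁
  obtain ⟨r, hr, hr'⟩ := exists_root_const d hdu hd isUnit_one ζ₀
    ((IsLocalRing.residue_eq_zero_iff _).1 (by rw [map_sub, map_pow, hζ.pow_eq_one, map_one, sub_self]))
  have hres : IsLocalRing.residue R r = IsLocalRing.residue R ζ₀ := by
    rw [← sub_eq_zero, ← map_sub]; exact (IsLocalRing.residue_eq_zero_iff _).2 hr'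
  refine ⟨Units.ofPowEqOne r d hr hd.ne', Units.ext (by simpa using hr), fun j h1 h2 => ?_, fun w hw => ?_⟩
  · rw [Units.val_ofPowEqOne]
    refine isUnit_of_map_unit (IsLocalRing.residue R) _ (isUnit_iff_ne_zero.2 ?_)
    rw [map_sub, map_pow, map_one, hres, sub_ne_zero]
    exact hζ.pow_ne_one_of_pos_of_lt h1.ne' h2
  · obtain ⟨i, -, hi⟩ := hζ.eq_pow_of_pow_eq_one (ξ := IsLocalRing.residue R w) (by rw [← map_pow, hw, map_one])
    refine ⟨i, ?_⟩
    rw [zpow_natCast, Units.val_pow_eq_pow_val, Units.val_ofPowEqOne]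
    have hq : IsUnit (∑ l ∈ Finset.range d, w ^ l * (r ^ i) ^ (d - 1 - l)) := by
      refine isUnit_of_map_unit (IsLocalRing.residue R) _ ?_
      rw [map_sum, Finset.sum_congr rfl (g := fun _ => IsLocalRing.residue R w ^ (d - 1)) fun l hl => ?_,
        Finset.sum_const, Finset.card_range, nsmul_eq_mul]
      · refine IsUnit.mul (by simpa using hdu.map (IsLocalRing.residue R)) (IsUnit.pow _ ?_)
        exact ((IsUnit.of_pow_eq_one hw hd.ne').map _)
      · rw [map_mul, map_pow, map_pow, map_pow, hres, hi, ← _root_.pow_add]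
        congr 1
        have := Finset.mem_range.1 hl
        omega
    refine (sub_eq_zero.1 ?_).symm
    refine hq.mul_right_eq_zero.1 ?_
    rw [geom_sum₂_mul, hw, ← pow_mul, mul_comm, pow_mul, hr, one_pow, sub_self]

end Units

end Groth.Agent.LaurTorus
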