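import Groth.Agent.RedPts.RankOne
import Groth.Prelude.Def_ActBC
import Mathlib.Algebra.MonoidAlgebra.Basic
import Mathlib.AlgebraicGeometry.Pullbacks

/-!
# Points of a torus split by a ring extension, and the twist by an automorphism of the extension
-/

set_option autoImplicit false
set_option linter.style.haveILetI false
set_option linter.unusedSectionVars false

universe u

open CategoryTheory CategoryTheory.Limits MonoidalCategory CartesianMonoidalCategory MonObj AlgebraicGeometry

noncomputable section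

namespace Groth.Agent.LaurTorus

variable {L L' : Type u} [CommRing L] [CommRing L'] (φ : L →+* L') {M : Type} [AddCommGroup M]
  {T : Over (Spec (CommRingCat.of L))} [GrpObj T]
  (e : Red.bc (Spec.map (CommRingCat.ofHom φ)) T ≅ Red.DS (Spec (CommRingCat.of L')) M) [IsMonHom e.hom]

/-- The scheme of a ring under `L`. -/
abbrev src {C : Type u} [CommRing C] (k : L →+* C) : Over (Spec (CommRingCat.of L)) :=
  Over.mk (Spec.map (CommRingCat.ofHom k))

/-- The map of rings under `L`. -/
def smap {C C' : Type u} [CommRing C] [CommRing C'] (k : L →+* C) (k' : L →+* C') (h : C →+* C')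
    (hk : h.comp k = k') : src k' ⟶ src k :=
  Over.homMk (Spec.map (CommRingCat.ofHom h)) (by
    show Spec.map _ ≫ Spec.map _ = Spec.map _
    rw [← Spec.map_comp, ← CommRingCat.ofHom_comp, hk])

variable {C : Type u} [CommRing C]

/-- The scheme of a ring under `L'`, seen over `L`. -/
def srcIso (ι' : L' →+* C) (k : L →+* C) (hk : ι'.comp φ = k) :
    src k ≅ (Over.map (Spec.map (CommRingCat.ofHom φ))).obj (src ι') :=
  Over.isoMk (Iso.refl _) (by
    subst hk
    simp [← Spec.map_comp, ← CommRingCat.ofHom_comp])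

/-- The point of the split torus. -/
def splitPt (ι' : L' →+* C) (k : L →+* C) (hk : ι'.comp φ = k) :
    (src k ⟶ T) ≃ (src ι' ⟶ Red.DS (Spec (CommRingCat.of L')) M) :=
  ((srcIso φ ι' k hk).homCongr (Iso.refl T)).trans
    (((Over.mapPullbackAdj _).homEquiv _ _).trans ((Iso.refl _).homCongr e))

theorem splitPt_apply (ι' : L' →+* C) (k : L →+* C) (hk : ι'.comp φ = k) (g : src k ⟶ T) :
    splitPt φ e ι' k hk g = (Over.mapPullbackAdj _).homEquiv _ _ ((srcIso φ ι' k hk).inv ≫ g) ≫ e.hom := by
  simp [splitPt]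

theorem splitPt_mul (ι' : L' →+* C) (k : L →+* C) (hk : ι'.comp φ = k) (g g' : src k ⟶ T) :
    splitPt φ e ι' k hk (g * g') = splitPt φ e ι' k hk g * splitPt φ e ι' k hk g' := by
  rw [splitPt_apply, splitPt_apply, splitPt_apply, MonObj.comp_mul, AlgGrp.Action.homEquiv_mul]
  exact MonObj.mul_comp _ _ e.hom

theorem splitPt_smap {C' : Type u} [CommRing C'] (ι' : L' →+* C) (k : L →+* C) (hk : ι'.comp φ = k)
    (j : L' →+* C') (k' : L →+* C') (hk' : j.comp φ = k') (h : C →+* C') (hh : h.comp k = k') (hj : h.comp ι' = j)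
    (g : src k ⟶ T) :
    splitPt φ e j k' hk' (smap k k' h hh ≫ g) = smap ι' j h hj ≫ splitPt φ e ι' k hk g := by
  rw [splitPt_apply, splitPt_apply, ← Category.assoc (smap ι' j h hj), ← Adjunction.homEquiv_naturality_left]
  congr 2

/-- Characters of the points of the split torus. -/
def chars (ι' : L' →+* C) : (src ι' ⟶ Red.DS (Spec (CommRingCat.of L')) M) ≃ (M →+ Additive Cˣ) where
  toFun x :=
    { toFun := fun m => Additive.ofMul (Units.map (Scheme.ΓSpecIso (CommRingCat.of C)).hom.hom.toMonoidHom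
        (RedPts.d_isUnit x m).unit)
      map_zero' := congrArg Additive.ofMul (Units.ext (by
        show (Scheme.ΓSpecIso (CommRingCat.of C)).hom (RedPts.dFn x 0) = 1
        rw [RedPts.d_zero, map_one]))
      map_add' := fun m n => congrArg Additive.ofMul (Units.ext (by
        show (Scheme.ΓSpecIso (CommRingCat.of C)).hom (RedPts.dFn x (m + n)) =
          (Scheme.ΓSpecIso (CommRingCat.of C)).hom (RedPts.dFn x m) * (Scheme.ΓSpecIso (CommRingCat.of C)).hom (RedPts.dFn x n)
        rw [RedPts.d_add, map_mul])) }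
  invFun v := (RedPts.d_surjective (S := Spec (CommRingCat.of L')) (X := src ι') (M := M)
    (((Scheme.ΓSpecIso (CommRingCat.of C)).inv.hom.toMonoidHom.comp (Units.coeHom C)).comp
      (AddMonoidHom.toMultiplicativeLeft v))).choose
  left_inv x := RedPts.d_ext fun m => by
    refine ((RedPts.d_surjective (S := Spec (CommRingCat.of L')) (X := src ι') (M := M) _).choose_spec m).trans ?_
    exact Iso.hom_inv_id_apply (Scheme.ΓSpecIso (CommRingCat.of C)) _
  right_inv v := AddMonoidHom.ext fun m => congrArg Additive.ofMul (Units.ext (by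
    refine (congrArg (Scheme.ΓSpecIso (CommRingCat.of C)).hom
      ((RedPts.d_surjective (S := Spec (CommRingCat.of L')) (X := src ι') (M := M) _).choose_spec m)).trans ?_
    exact Iso.inv_hom_id_apply (Scheme.ΓSpecIso (CommRingCat.of C)) _))

theorem chars_val (ι' : L' →+* C) (x : src ι' ⟶ Red.DS (Spec (CommRingCat.of L')) M) (m : M) :
    (((chars ι' x m).toMul : Cˣ) : C) = (Scheme.ΓSpecIso (CommRingCat.of C)).hom (RedPts.dFn x m) := rfl

/-- The characters of a point of the torus with values in a ring under `L'`. -/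
def pts (ι' : L' →+* C) (k : L →+* C) (hk : ι'.comp φ = k) : (src k ⟶ T) ≃ (M →+ Additive Cˣ) :=
  (splitPt φ e ι' k hk).trans (chars ι')

theorem pts_mul (ι' : L' →+* C) (k : L →+* C) (hk : ι'.comp φ = k) (g g' : src k ⟶ T) :
    pts φ e ι' k hk (g * g') = pts φ e ι' k hk g + pts φ e ι' k hk g' := by
  refine AddMonoidHom.ext fun m => Additive.toMul.injective (Units.ext ?_)
  show _ = ((chars ι' (splitPt φ e ι' k hk g) m).toMul : Cˣ).val * ((chars ι' (splitPt φ e ι' k hk g') m).toMul : Cˣ).val
  simp only [pts, Equiv.trans_apply, chars_val, splitPt_mul, RedPts.d_mul, map_mul]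

theorem pts_one (ι' : L' →+* C) (k : L →+* C) (hk : ι'.comp φ = k) : pts φ e ι' k hk 1 = 0 := by
  have := pts_mul φ e ι' k hk 1 1
  rw [_root_.mul_one] at this
  refine AddMonoidHom.ext fun m => ?_
  exact left_eq_add.mp (DFunLike.congr_fun this m)

/-- Push a hom to units along a ring map. -/
def pushU {C' : Type u} [CommRing C'] (h : C →+* C') (v : M →+ Additive Cˣ) : M →+ Additive C'ˣ :=
  (MonoidHom.toAdditive (Units.map h.toMonoidHom)).comp v

theorem pts_smap {C' : Type u} [CommRing C'] (ι' : L' →+* C) (k : L →+* C) (hk : ι'.comp φ = k)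
    (j : L' →+* C') (k' : L →+* C') (hk' : j.comp φ = k') (h : C →+* C') (hh : h.comp k = k') (hj : h.comp ι' = j)
    (g : src k ⟶ T) : pts φ e j k' hk' (smap k k' h hh ≫ g) = pushU h (pts φ e ι' k hk g) := by
  refine AddMonoidHom.ext fun m => Additive.toMul.injective (Units.ext ?_)
  show _ = h ((chars ι' (splitPt φ e ι' k hk g) m).toMul : Cˣ).val
  simp only [pts, Equiv.trans_apply, chars_val, splitPt_smap φ e ι' k hk j k' hk' h hh hj]
  rw [RedPts.d_comp (smap ι' j h hj)]
  exact congr($(Scheme.ΓSpecIso_naturality (CommRingCat.ofHom h)) _)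

section Twist

open AddMonoidAlgebra

variable {N : Type} [AddCommGroup N]

/-- The tautological character. -/
def tau : N →+ Additive (AddMonoidAlgebra L' N)ˣ :=
  MonoidHom.toAdditiveRight ((AddMonoidAlgebra.of L' N).toHomUnits)

theorem tau_val (n : N) : (((tau (L' := L') n).toMul : (AddMonoidAlgebra L' N)ˣ) : AddMonoidAlgebra L' N) = single n 1 :=
  rfl

/-- Evaluation at a character. -/
def evU [Algebra L' C] (v : N →+ Additive Cˣ) : AddMonoidAlgebra L' N →ₐ[L'] C :=
  AddMonoidAlgebra.lift L' C N ((Units.coeHom C).comp (AddMonoidHom.toMultiplicativeLeft v))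

theorem evU_single [Algebra L' C] (v : N →+ Additive Cˣ) (n : N) (r : L') :
    evU v (single n r) = algebraMap L' C r * ((v n).toMul : Cˣ) := by
  rw [evU, AddMonoidAlgebra.lift_single, Algebra.smul_def]
  rfl

theorem pushU_tau [Algebra L' C] (v : N →+ Additive Cˣ) :
    pushU (evU (L' := L') v).toRingHom (tau (L' := L') (N := N)) = v := by
  refine AddMonoidHom.ext fun m => Additive.toMul.injective (Units.ext ?_)
  show evU v ((tau (L' := L') m).toMul : (AddMonoidAlgebra L' N)ˣ).val = _
  rw [tau_val, evU_single, map_one, _root_.one_mul]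

variable [DecidableEq N]

theorem coeff_diag (f : AddMonoidAlgebra L' N) (x y : N) :
    (evU (L' := L') ((tau (L' := L') (N := N × N)).comp ((AddMonoidHom.id N).prod (AddMonoidHom.id N))) f).coeff (x, y) =
      if x = y then f.coeff x else 0 := by
  induction f using AddMonoidAlgebra.induction_linear with
  | zero => simp
  | add p q hp hq => rw [map_add, coeff_add, Finsupp.add_apply, hp, hq, coeff_add, Finsupp.add_apply]; split_ifs <;> simp
  | single n r =>
    rw [evU_single, AddMonoidHom.comp_apply, tau_val]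
    simp [AddMonoidAlgebra.coe_algebraMap, single_mul_single, Finsupp.single_apply, Prod.ext_iff]
    split_ifs <;> grind

theorem coeff_cross (f g : AddMonoidAlgebra L' N) (x y : N) :
    (evU (L' := L') ((tau (L' := L') (N := N × N)).comp (AddMonoidHom.inl N N)) f *
      evU (L' := L') ((tau (L' := L') (N := N × N)).comp (AddMonoidHom.inr N N)) g).coeff (x, y) =
        f.coeff x * g.coeff y := by
  induction f using AddMonoidAlgebra.induction_linear with
  | zero => simp
  | add p q hp hq => rw [map_add, _root_.add_mul, coeff_add, Finsupp.add_apply, hp, hq, coeff_add, Finsupp.add_apply, _root_.add_mul]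
  | single n r =>
    induction g using AddMonoidAlgebra.induction_linear with
    | zero => simp
    | add p q hp hq => rw [map_add, _root_.mul_add, coeff_add, Finsupp.add_apply, hp, hq, coeff_add, Finsupp.add_apply, _root_.mul_add]
    | single n' r' =>
      rw [evU_single, evU_single, AddMonoidHom.comp_apply, AddMonoidHom.comp_apply, tau_val, tau_val]
      simp [AddMonoidAlgebra.coe_algebraMap, single_mul_single, Finsupp.single_apply, Prod.ext_iff]
      split_ifs <;> grind

end Twist

/-- Twisting the structure map by an automorphism changes characters by an automorphism of `M`. -/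
theorem exists_twist [Nontrivial L'] (σ : L' →+* L') (hσ : σ.comp φ = φ)
    (hconn : ∀ x : L', IsIdempotentElem x → x = 0 ∨ x = 1) :
    ∃ ρ : M →ₗ[ℤ] M, ∀ (C : Type u) [CommRing C] (ι' : L' →+* C) (k : L →+* C) (hk : ι'.comp φ = k)
      (hk' : (ι'.comp σ).comp φ = k) (g : src k ⟶ T),
      pts φ e (ι'.comp σ) k hk' g = (pts φ e ι' k hk g).comp ρ.toAddMonoidHom := by
  classical
  let U := AddMonoidAlgebra L' M
  let i₀ : L' →+* U := algebraMap L' U
  have h0 : (i₀.comp σ).comp φ = i₀.comp φ := by rw [RingHom.comp_assoc, hσ]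
  let w : M →+ Additive Uˣ := pts φ e (i₀.comp σ) (i₀.comp φ) h0 ((pts φ e i₀ (i₀.comp φ) rfl).symm tau)
  have key : ∀ (C : Type u) [CommRing C] (ι' : L' →+* C) (k : L →+* C) (hk : ι'.comp φ = k)
      (hk' : (ι'.comp σ).comp φ = k) (g : src k ⟶ T),
      pts φ e (ι'.comp σ) k hk' g =
        pushU (letI := ι'.toAlgebra; (evU (pts φ e ι' k hk g)).toRingHom) w := by
    intro C _ ι' k hk hk' g
    letI := ι'.toAlgebra
    let ev := evU (L' := L') (pts φ e ι' k hk g)
    have hev : ev.toRingHom.comp i₀ = ι' := ev.comp_algebraMap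
    have hg : g = smap (i₀.comp φ) k ev.toRingHom (by rw [← RingHom.comp_assoc, hev, hk]) ≫
        (pts φ e i₀ (i₀.comp φ) rfl).symm tau := by
      apply (pts φ e ι' k hk).injective
      rw [pts_smap φ e i₀ (i₀.comp φ) rfl ι' k hk _ _ hev, Equiv.apply_symm_apply, pushU_tau]
    conv_lhs => rw [hg]
    exact pts_smap φ e (i₀.comp σ) (i₀.comp φ) h0 (ι'.comp σ) k hk' _ _
      (by rw [← RingHom.comp_assoc, hev]) _
  let U2 := AddMonoidAlgebra L' (M × M)
  let i₂ : L' →+* U2 := algebraMap L' U2
  have hk2 : (i₂.comp σ).comp φ = i₂.comp φ := by rw [RingHom.comp_assoc, hσ]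
  have add : ∀ (v v' : M →+ Additive U2ˣ) (m : M),
      evU (L' := L') (v + v') ((w m).toMul : Uˣ).val =
        evU (L' := L') v ((w m).toMul : Uˣ).val * evU (L' := L') v' ((w m).toMul : Uˣ).val := by
    intro v v' m
    have halg : i₂.toAlgebra = (inferInstance : Algebra L' U2) := Algebra.algebra_ext _ _ fun _ => rfl
    obtain ⟨g, rfl⟩ := (pts φ e i₂ (i₂.comp φ) rfl).surjective v
    obtain ⟨g', rfl⟩ := (pts φ e i₂ (i₂.comp φ) rfl).surjective v'
    have h := DFunLike.congr_fun (pts_mul φ e (i₂.comp σ) (i₂.comp φ) hk2 g g') m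
    rw [key U2 i₂ (i₂.comp φ) rfl hk2, key U2 i₂ (i₂.comp φ) rfl hk2, key U2 i₂ (i₂.comp φ) rfl hk2,
      pts_mul, halg] at h
    exact congrArg (fun q : Additive U2ˣ => (q.toMul : U2ˣ).val) h
  have hgl : ∀ m (x y : M), (if x = y then ((w m).toMul : Uˣ).val.coeff x else 0) =
      ((w m).toMul : Uˣ).val.coeff x * ((w m).toMul : Uˣ).val.coeff y := fun m x y => by
    rw [← coeff_diag, ← coeff_cross]
    congr 2
    rw [← add]
    congr 1
    rw [← AddMonoidHom.comp_add]
    congr 2
    ext <;> simp
  have hne : ∀ m, ∃ x, ((w m).toMul : Uˣ).val.coeff x ≠ 0 := fun m => by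
    by_contra! h
    have : ((w m).toMul : Uˣ).val = 0 := AddMonoidAlgebra.coeff_injective (Finsupp.ext h)
    exact ((w m).toMul : Uˣ).ne_zero this
  choose ρ₀ hρ₀ using hne
  have hw : ∀ m, ((w m).toMul : Uˣ).val = AddMonoidAlgebra.single (ρ₀ m) 1 := fun m => by
    have h1 : ((w m).toMul : Uˣ).val.coeff (ρ₀ m) = 1 :=
      (hconn _ (by have := hgl m (ρ₀ m) (ρ₀ m); rw [if_pos rfl] at this; exact this.symm)).resolve_left (hρ₀ m)
    refine AddMonoidAlgebra.coeff_injective (Finsupp.ext fun y => ?_)
    rw [AddMonoidAlgebra.coeff_single, Finsupp.single_apply]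
    split_ifs with h
    · rw [← h, h1]
    · have := hgl m (ρ₀ m) y
      rw [if_neg h, h1, _root_.one_mul] at this
      exact this.symm
  have hadd : ∀ m n, ρ₀ (m + n) = ρ₀ m + ρ₀ n := fun m n => by
    have : ((w (m + n)).toMul : Uˣ).val = ((w m).toMul : Uˣ).val * ((w n).toMul : Uˣ).val := by rw [map_add]; rfl
    rw [hw, hw, hw, AddMonoidAlgebra.single_mul_single, _root_.one_mul] at this
    exact (AddMonoidAlgebra.single_left_inj one_ne_zero).1 this
  let ρ : M →ₗ[ℤ] M := (AddMonoidHom.mk' ρ₀ hadd).toIntLinearMap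
  refine ⟨ρ, fun C _ ι' k hk hk' g => ?_⟩
  rw [key C ι' k hk hk' g]
  letI := ι'.toAlgebra
  refine AddMonoidHom.ext fun m => Additive.toMul.injective (Units.ext ?_)
  show evU (L' := L') (pts φ e ι' k hk g) ((w m).toMul : Uˣ).val = _
  rw [hw, evU_single, map_one, _root_.one_mul]
  rfl

end Groth.Agent.LaurTorus
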