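import Groth.Agent.SGA1Torsor.Basic
import Groth.Agent.GITLib.Pushforward
import Mathlib.RingTheory.PicardGroup

/-!
# Torsors under split tori over affine schemes with trivial Picard group
-/

set_option autoImplicit false
set_option linter.style.haveILetI false

universe u

open CategoryTheory CategoryTheory.Limits MonoidalCategory CartesianMonoidalCategory MonObj AlgebraicGeometry
open scoped TensorProduct

noncomputable section

namespace Groth.Agent.LaurTorus

open SGA1Torsor GITLib

variable {A : Type u} [CommRing A] {B : Type u} [CommRing B] [Algebra A B]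

/-- The elements trivialising a unit cocycle. -/
def trivSub (c : B ⊗[A] B) : Submodule A B :=
  LinearMap.ker ((LinearMap.mulLeft A c).comp ((TensorProduct.mk A B B).flip 1) - TensorProduct.mk A B B 1)

theorem mem_trivSub {c : B ⊗[A] B} {m : B} : m ∈ trivSub c ↔ c * (m ⊗ₜ 1) = 1 ⊗ₜ m := by
  simp [trivSub, sub_eq_zero]

theorem span_trivSub [Module.FaithfullyFlat A B] (c : (B ⊗[A] B)ˣ)
    (hc : a13 (c : B ⊗[A] B) = a23 (c : B ⊗[A] B) * a12 (c : B ⊗[A] B)) :
    Ideal.span (trivSub (c : B ⊗[A] B) : Set B) = ⊤ := by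
  let δ : B →ₗ[A] B ⊗[A] B :=
    (LinearMap.mulLeft A (c : B ⊗[A] B)).comp ((TensorProduct.mk A B B).flip 1) - TensorProduct.mk A B B 1
  have hex := Module.Flat.lTensor_exact B (LinearMap.exact_subtype_ker_map δ)
  have hδ : ∀ z : B ⊗[A] B, δ.lTensor B z = a23 (c : B ⊗[A] B) * a12 z - a13 z := fun z => by
    induction z using TensorProduct.induction_on with
    | zero => simp
    | tmul b d => simp [δ, TensorProduct.tmul_sub]
    | add z w hz hw => rw [map_add, hz, hw, map_add, map_add, mul_add]; abel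
  obtain ⟨w, hw⟩ := (hex (c : B ⊗[A] B)).1 (by rw [hδ, hc, sub_self])
  let mu : B ⊗[A] (B ⊗[A] B) →ₐ[A] B :=
    (Algebra.TensorProduct.lmul' A).comp (Algebra.TensorProduct.map (AlgHom.id A B) (Algebra.TensorProduct.lmul' A))
  have hμ : ∀ f : B ⊗[A] B →ₐ[A] B ⊗[A] (B ⊗[A] B), (f = a12 ∨ f = a13 ∨ f = a23) →
      mu.comp f = Algebra.TensorProduct.lmul' A := by
    rintro f (rfl | rfl | rfl) <;> ext b <;> simp [mu]
  have hone : Algebra.TensorProduct.lmul' A (c : B ⊗[A] B) = 1 := by
    have h1 := congrArg mu hc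
    rw [map_mul, ← AlgHom.comp_apply, ← AlgHom.comp_apply, ← AlgHom.comp_apply, hμ _ (by simp),
      hμ _ (by simp), hμ _ (by simp)] at h1
    exact ((c.isUnit.map _).mul_eq_left).1 h1.symm
  have hall : ∀ v, Algebra.TensorProduct.lmul' A ((LinearMap.ker δ).subtype.lTensor B v) ∈
      Ideal.span (trivSub (c : B ⊗[A] B) : Set B) := fun v => by
    induction v using TensorProduct.induction_on with
    | zero => simp
    | tmul b m => simpa [δ, trivSub] using Ideal.mul_mem_left _ b (Ideal.subset_span (α := B) m.2)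
    | add z w hz hw => rw [map_add, map_add]; exact add_mem hz hw
  have := hall w
  rw [hw, hone] at this
  exact (Ideal.eq_top_iff_one _).2 this

/-- A unit cocycle is a coboundary when all invertible modules over the base are free. -/
theorem exists_coboundary_unit [Module.FaithfullyFlat A B]
    (hA : ∀ (P : Type u) [AddCommGroup P] [Module A P] [Module.Invertible A P], Module.Free A P) (c : (B ⊗[A] B)ˣ)
    (hc : a13 (c : B ⊗[A] B) = a23 (c : B ⊗[A] B) * a12 (c : B ⊗[A] B)) :
    ∃ m : Bˣ, (c : B ⊗[A] B) * ((m : B) ⊗ₜ 1) = 1 ⊗ₜ (m : B) := by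
  classical
  have hc' : a13 (↑c⁻¹ : B ⊗[A] B) = a23 (↑c⁻¹ : B ⊗[A] B) * a12 (↑c⁻¹ : B ⊗[A] B) := by
    have e : Units.map (a13 (A := A) (B := B)).toMonoidHom c =
        Units.map (a23 (A := A) (B := B)).toMonoidHom c * Units.map (a12 (A := A) (B := B)).toMonoidHom c :=
      Units.ext hc
    have e' : Units.map (a13 (A := A) (B := B)).toMonoidHom c⁻¹ =
        Units.map (a23 (A := A) (B := B)).toMonoidHom c⁻¹ * Units.map (a12 (A := A) (B := B)).toMonoidHom c⁻¹ := by
      rw [map_inv, map_inv, map_inv, e, mul_inv_rev]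
      exact CommMonoid.mul_comm (M := (B ⊗[A] (B ⊗[A] B))ˣ) _ _
    exact congrArg Units.val e'
  let M := trivSub (c : B ⊗[A] B)
  let N := trivSub ((↑c⁻¹ : B ⊗[A] B))
  have hMN : ∀ m ∈ M, ∀ n ∈ N, ∃ a : A, algebraMap A B a = m * n := fun m hm n hn => by
    refine WittExt.Amitsur.exists_of_invariant ?_
    have h1 := congrArg₂ (· * ·) (mem_trivSub.1 hm) (mem_trivSub.1 hn)
    simp only [mul_mul_mul_comm _ (m ⊗ₜ[A] (1 : B)), Units.mul_inv, _root_.one_mul, Algebra.TensorProduct.tmul_mul_tmul,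
      _root_.mul_one] at h1
    exact h1
  let I : Ideal A := Ideal.span {a | ∃ m ∈ M, ∃ n ∈ N, algebraMap A B a = m * n}
  have hI : I = ⊤ := by
    have hle : Ideal.span (M : Set B) * Ideal.span (N : Set B) ≤ I.map (algebraMap A B) := by
      rw [Ideal.span_mul_span', Ideal.span_le]
      intro z hz
      obtain ⟨m, hm, n, hn, rfl⟩ := Set.mem_mul.1 hz
      obtain ⟨a, ha⟩ := hMN m hm n hn
      show m * n ∈ _
      rw [← ha]
      exact Ideal.mem_map_of_mem _ (Ideal.subset_span ⟨m, hm, n, hn, ha⟩)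
    rw [span_trivSub c hc, span_trivSub c⁻¹ hc', Ideal.top_mul] at hle
    have := congrArg (Ideal.comap (algebraMap A B)) (top_le_iff.1 hle)
    rwa [Ideal.comap_map_eq_self_of_faithfullyFlat, Ideal.comap_top] at this
  obtain ⟨s, hs⟩ : ∃ s : M ⊗[A] N, TensorProduct.lift ((LinearMap.mul A B).compl₁₂ M.subtype N.subtype) s = 1 := by
    have : I ≤ Submodule.comap (Algebra.linearMap A B)
        (LinearMap.range (TensorProduct.lift ((LinearMap.mul A B).compl₁₂ M.subtype N.subtype))) := by
      rw [Ideal.span_le]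
      rintro a ⟨m, hm, n, hn, ha⟩
      exact ⟨⟨m, hm⟩ ⊗ₜ ⟨n, hn⟩, ha.symm⟩
    simpa using this (hI ▸ Submodule.mem_top : (1 : A) ∈ I)
  let mu0 : M ⊗[A] N →ₗ[A] B := TensorProduct.lift ((LinearMap.mul A B).compl₁₂ M.subtype N.subtype)
  have hinj : Function.Injective (algebraMap A B) := FaithfulSMul.algebraMap_injective A B
  have hrange : ∀ x, mu0 x ∈ LinearMap.range (Algebra.linearMap A B) := fun x => by
    induction x using TensorProduct.induction_on with
    | zero => simp
    | tmul m n => exact hMN m m.2 n n.2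
    | add x y hx hy => rw [map_add]; exact add_mem hx hy
  let e₀ : A ≃ₗ[A] LinearMap.range (Algebra.linearMap A B) := LinearEquiv.ofInjective _ hinj
  let F : M ⊗[A] N →ₗ[A] A := e₀.symm.toLinearMap.comp (mu0.codRestrict _ hrange)
  have hF : ∀ x, algebraMap A B (F x) = mu0 x := fun x =>
    congrArg Subtype.val (e₀.apply_symm_apply ⟨mu0 x, hrange x⟩)
  have key : ∀ x, F x • s = x := fun x => by
    induction x using TensorProduct.induction_on with
    | zero => simp
    | tmul m n =>
      have : ∀ t : M ⊗[A] N, F (m ⊗ₜ n) • t = F t • (m ⊗ₜ n) := fun t => by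
        induction t using TensorProduct.induction_on with
        | zero => simp
        | tmul m' n' =>
          have e1 : F (m ⊗ₜ n) • m' = F (m' ⊗ₜ n) • m := Subtype.ext (by
            simp only [Submodule.coe_smul, Algebra.smul_def, hF]
            simp [mu0]
            ring)
          have e2 : F (m' ⊗ₜ n) • n' = F (m' ⊗ₜ n') • n := Subtype.ext (by
            simp only [Submodule.coe_smul, Algebra.smul_def, hF]
            simp [mu0]
            ring)
          rw [TensorProduct.smul_tmul', e1, TensorProduct.smul_tmul, e2, TensorProduct.tmul_smul]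
        | add t t' h h' => rw [smul_add, h, h', map_add, add_smul]
      rw [this, show F s = 1 from hinj (by rw [hF, map_one]; exact hs), one_smul]
    | add x y hx hy => rw [map_add, add_smul, hx, hy]
  have hFs : F s = 1 := hinj (by rw [hF, map_one]; exact hs)
  let eF : M ⊗[A] N ≃ₗ[A] A := LinearEquiv.ofLinear F (LinearMap.toSpanSingleton A _ s)
    (LinearMap.ext_ring (by simp [hFs])) (LinearMap.ext fun x => by simp [key])
  haveI : Module.Invertible A M := Module.Invertible.left eF
  haveI := hA M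
  obtain ⟨e⟩ := (Module.Invertible.free_iff_linearEquiv (R := A) (M := M)).1 inferInstance
  have hgen : ∀ m : M, ((m : B)) = algebraMap A B (e m) * ((e.symm 1 : M) : B) := fun m => by
    conv_lhs => rw [← e.symm_apply_apply m, ← _root_.mul_one (e m), ← smul_eq_mul, map_smul]
    rw [Submodule.coe_smul, Algebra.smul_def]
  have hunit : IsUnit ((e.symm 1 : M) : B) := by
    rw [← Ideal.span_singleton_eq_top, ← top_le_iff, ← span_trivSub c hc, Ideal.span_le]
    exact fun m hm => Ideal.mem_span_singleton.2 ⟨_, (hgen ⟨m, hm⟩).trans (mul_comm _ _)⟩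
  exact ⟨hunit.unit, mem_trivSub.1 (e.symm 1).2⟩

/-- A torsor under a split torus over an affine scheme with trivial Picard group has a section. -/
theorem hasSection_of_split {M : Type} [AddCommGroup M] [Module.Free ℤ M]
    (hA : ∀ (P : Type u) [AddCommGroup P] [Module A P] [Module.Invertible A P], Module.Free A P)
    {G X : Over (Spec (CommRingCat.of A))} [GrpObj G] (e : G ≅ Red.DS (Spec (CommRingCat.of A)) M) [IsMonHom e.hom]
    {a : AlgGrp.Action G X} (h : NonAbH1.IsTorsorFor Scheme.fppfPrecoverage a) :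
    NonAbH1.HasSectionOver X (𝟙 (Spec (CommRingCat.of A))) := by
  have hm : ∀ {Z : Over (Spec (CommRingCat.of A))} (x y : Z ⟶ G), (x * y) ≫ e.hom = (x ≫ e.hom) * (y ≫ e.hom) :=
    fun x y => MonObj.mul_comp x y e.hom
  obtain ⟨Rc, hRc, hs⟩ := h.2
  let U : (Spec (CommRingCat.of A)).Opens := ⊤
  have hU : IsAffineOpen U := isAffineOpen_top _
  obtain ⟨B₀, instB, algB, hB, ⟨x₀⟩⟩ := SGA1Torsor.exists_point_affine (X := X)
    ⟨Rc, fppfPrecoverage_le_fpqc' _ hRc, hs⟩ (U := U) hU
  let gam : A ≃+* Γ(Spec (CommRingCat.of A), U) := (Scheme.ΓSpecIso (CommRingCat.of A)).commRingCatIsoToRingEquiv.symm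
  letI : Algebra A B₀ := ((algebraMap _ B₀).comp gam.toRingHom).toAlgebra
  haveI : Module.FaithfullyFlat A B₀ := RingHom.faithfullyFlat_algebraMap_iff.1
    (RingHom.FaithfullyFlat.stableUnderComposition _ _ (RingHom.FaithfullyFlat.of_bijective gam.bijective)
      (RingHom.faithfullyFlat_algebraMap_iff.2 hB))
  let j := 𝟙 (Spec (CommRingCat.of A))
  let x : QA j B₀ ⟶ X := Over.homMk x₀.left (by
    refine (Over.w x₀).trans ?_
    show Spec.map _ ≫ hU.fromSpec = Spec.map (CommRingCat.ofHom ((algebraMap _ B₀).comp gam.toRingHom)) ≫ 𝟙 _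
    rw [Category.comp_id, CommRingCat.ofHom_comp, Spec.map_comp]
    congr 1
    rw [show hU.fromSpec = (Spec (CommRingCat.of A)).isoSpec.inv from IsAffineOpen.fromSpec_top]
    exact Scheme.isoSpec_Spec_inv _)
  obtain ⟨g, hg, hco⟩ := exists_diff j h.1 x
  let ψ : ∀ m : M, (B₀ ⊗[A] B₀)ˣ := fun m =>
    Units.map (fn j _).toMonoidHom (RedPts.d_isUnit (g ≫ e.hom) m).unit
  have hψv : ∀ m, (ψ m : B₀ ⊗[A] B₀) = fn j _ (RedPts.dFn (g ≫ e.hom) m) := fun m => rfl
  have hψ : ∀ m, a13 (ψ m : B₀ ⊗[A] B₀) = a23 (ψ m : B₀ ⊗[A] B₀) * a12 (ψ m : B₀ ⊗[A] B₀) := fun m => by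
    have h0 := congrArg (fun q => q ≫ e.hom) hco
    rw [hm] at h0
    simp only [Category.assoc] at h0
    have h1 := congrArg (fun q => fn j _ (RedPts.dFn q m)) h0
    simp only [RedPts.d_mul, map_mul] at h1
    rw [RedPts.d_comp (qmap j a13), RedPts.d_comp (qmap j a23), RedPts.d_comp (qmap j a12), fn_app, fn_app, fn_app] at h1
    exact h1
  let b := Module.Free.chooseBasis ℤ M
  choose v hv using fun i => exists_coboundary_unit hA (ψ (b i)) (hψ (b i))
  let V : M →+ Additive B₀ˣ := (b.constr ℤ fun i => Additive.ofMul (v i)⁻¹).toAddMonoidHom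
  obtain ⟨t, ht⟩ := RedPts.d_surjective (S := Spec (CommRingCat.of A)) (X := QA j B₀) (M := M)
    (((fn j B₀).symm.toMonoidHom.comp (Units.coeHom B₀)).comp (AddMonoidHom.toMultiplicativeLeft V))
  obtain ⟨t', rfl⟩ : ∃ t' : QA j B₀ ⟶ G, t' ≫ e.hom = t := ⟨t ≫ e.inv, by simp⟩
  let l : B₀ →ₐ[A] B₀ ⊗[A] B₀ := Algebra.TensorProduct.includeLeft
  let r : B₀ →ₐ[A] B₀ ⊗[A] B₀ := Algebra.TensorProduct.includeRight
  have hcob : (qmap j l ≫ t') = (qmap j r ≫ t') * g := by
    rw [← cancel_mono e.hom, hm, Category.assoc, Category.assoc]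
    refine RedPts.d_ext fun m => (fn j _).injective ?_
    rw [RedPts.d_mul, map_mul, RedPts.d_comp (qmap j l), RedPts.d_comp (qmap j r), fn_app, fn_app, ht, ← hψv]
    show l (fn j B₀ ((fn j B₀).symm ((V m).toMul : B₀))) = r (fn j B₀ ((fn j B₀).symm ((V m).toMul : B₀))) * _
    rw [RingEquiv.apply_symm_apply]
    let W : M →+ Additive (B₀ ⊗[A] B₀)ˣ :=
      { toFun := fun m => Additive.ofMul (ψ m)
        map_zero' := congrArg Additive.ofMul (Units.ext ((hψv 0).trans (by rw [RedPts.d_zero, map_one]; rfl)))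
        map_add' := fun m n => congrArg Additive.ofMul (Units.ext (by
          show (ψ (m + n) : B₀ ⊗[A] B₀) = ψ m * ψ n
          simp only [hψv, RedPts.d_add, map_mul])) }
    have : (MonoidHom.toAdditive (Units.map l.toMonoidHom)).comp V =
        (MonoidHom.toAdditive (Units.map r.toMonoidHom)).comp V + W := by
      refine AddMonoidHom.toIntLinearMap_injective (b.ext fun i => ?_)
      show Additive.ofMul (Units.map l.toMonoidHom (V (b i)).toMul) =
        Additive.ofMul (Units.map r.toMonoidHom (V (b i)).toMul * ψ (b i))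
      simp only [V, LinearMap.toAddMonoidHom_coe, Module.Basis.constr_basis, toMul_ofMul, map_inv]
      refine congrArg Additive.ofMul ?_
      rw [eq_inv_mul_iff_mul_eq, mul_inv_eq_iff_eq_mul]
      exact Units.ext (hv i).symm
    exact congrArg Units.val (congrArg Additive.toMul (DFunLike.congr_fun this m))
  obtain ⟨s, hs'⟩ := exists_section_of_eq j (R := B₀) (lift t' x ≫ a.act) (by
    rw [GITLib.comp_lift_act, GITLib.comp_lift_act, ← hg, ← a.lift_mul_act, hcob]) ⊤
    ((PrimeSpectrum.comap_surjective_of_faithfullyFlat (A := A) (B := B₀)).range_eq.trans rfl)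
  refine ⟨(Scheme.topIso (Spec (CommRingCat.of A))).inv ≫ s, ?_⟩
  rw [Category.assoc, hs']
  exact (Scheme.topIso _).inv_hom_id

end Groth.Agent.LaurTorus
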