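import Groth.Agent.LaurTorus.Laurent

/-!
# Units of Laurent series with their valuation, constant coefficient and substitution `s ↦ z s`
-/

set_option autoImplicit false

universe u

noncomputable section

namespace Groth.Agent.LaurTorus

variable {R : Type u} [CommRing R]

/-- The units of Laurent series, written additively. -/
abbrev LU (R : Type u) [CommRing R] : Type u := Additive (LaurentSeries R)ˣ

/-- The substitution on units. -/
abbrev sigU (z : Rˣ) : LU R →+ LU R := MonoidHom.toAdditive (Units.map (sig z).toMonoidHom)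

/-- The series of a monomial times a power series. -/
abbrev mon (n : ℤ) (p : PowerSeries R) : LaurentSeries R :=
  HahnSeries.single n (1 : R) * HahnSeries.ofPowerSeries ℤ R p

theorem mon_mul (n m : ℤ) (p q : PowerSeries R) : mon n p * mon m q = mon (n + m) (p * q) := by
  simp only [mon, map_mul]
  rw [mul_mul_mul_comm, HahnSeries.single_mul_single, one_mul]

theorem mon_one : mon 0 (1 : PowerSeries R) = 1 := by simp [mon]

theorem sig_ofPowerSeries (z : Rˣ) (p : PowerSeries R) :
    sig z (HahnSeries.ofPowerSeries ℤ R p) = HahnSeries.ofPowerSeries ℤ R (PowerSeries.rescale (z : R) p) := by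
  refine HahnSeries.ext (funext fun n => ?_)
  rw [sig_coeff]
  rcases le_or_gt 0 n with h | h
  · lift n to ℕ using h
    rw [HahnSeries.ofPowerSeries_apply_coeff, HahnSeries.ofPowerSeries_apply_coeff, PowerSeries.coeff_rescale,
      zpow_natCast, Units.val_pow_eq_pow_val]
  · have hn : ∀ q : PowerSeries R, (HahnSeries.ofPowerSeries ℤ R q).coeff n = 0 := fun q => by
      rw [HahnSeries.ofPowerSeries_apply]
      refine HahnSeries.embDomain_of_notMem_range ?_
      rintro ⟨m, hm⟩
      simp at hm
      omega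
    rw [hn, hn, mul_zero]

theorem sig_mon (z : Rˣ) (n : ℤ) (p : PowerSeries R) :
    sig z (mon n p) = mon n (PowerSeries.C ((z ^ n : Rˣ) : R) * PowerSeries.rescale (z : R) p) := by
  simp only [mon, map_mul, sig_ofPowerSeries, HahnSeries.ofPowerSeries_C, ← mul_assoc]
  congr 1
  refine HahnSeries.ext (funext fun m => ?_)
  rw [sig_coeff, HahnSeries.C_apply, HahnSeries.single_mul_single, one_mul, add_zero]
  simp only [HahnSeries.coeff_single]
  split_ifs with h <;> simp [h]

variable [IsReduced R] [Nontrivial R] (hconn : ∀ e : R, IsIdempotentElem e → e = 0 ∨ e = 1)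

/-- The order of a unit. -/
def ordU (u : LU R) : ℤ := (Groth.Agent.S15750.result R hconn u.toMul).exists.choose.1

/-- The power series part of a unit. -/
def serU (u : LU R) : (PowerSeries R)ˣ := (Groth.Agent.S15750.result R hconn u.toMul).exists.choose.2

include hconn in
theorem mon_spec (u : LU R) : ((u.toMul : (LaurentSeries R)ˣ) : LaurentSeries R) = mon (ordU hconn u) (serU hconn u : PowerSeries R) :=
  (Groth.Agent.S15750.result R hconn u.toMul).exists.choose_spec

include hconn in
theorem eq_of_mon (u : LU R) (n : ℤ) (p : (PowerSeries R)ˣ)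
    (h : ((u.toMul : (LaurentSeries R)ˣ) : LaurentSeries R) = mon n (p : PowerSeries R)) :
    ordU hconn u = n ∧ serU hconn u = p := by
  have := (Groth.Agent.S15750.result R hconn u.toMul).unique
    (Groth.Agent.S15750.result R hconn u.toMul).exists.choose_spec (y₂ := (n, p)) h
  exact ⟨congrArg Prod.fst this, congrArg Prod.snd this⟩

include hconn in
theorem ord_ser_add (u v : LU R) :
    ordU hconn (u + v) = ordU hconn u + ordU hconn v ∧ serU hconn (u + v) = serU hconn u * serU hconn v :=
  eq_of_mon hconn _ _ _ (by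
    rw [toMul_add, Units.val_mul, mon_spec hconn u, mon_spec hconn v, mon_mul, Units.val_mul])

/-- The valuation. -/
def valU : LU R →+ ℤ := AddMonoidHom.mk' (ordU hconn) fun u v => (ord_ser_add hconn u v).1

/-- The constant coefficient of the power series part. -/
def cstU : LU R →+ Additive Rˣ :=
  AddMonoidHom.mk' (fun u => Additive.ofMul (Units.map PowerSeries.constantCoeff.toMonoidHom (serU hconn u)))
    fun u v => congrArg Additive.ofMul (by rw [(ord_ser_add hconn u v).2, map_mul]; rfl)

omit [IsReduced R] [Nontrivial R] in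
theorem exists_root_series [IsReduced R] {d : ℕ} (hd : 0 < d) (hdu : IsUnit (d : R)) (p : (PowerSeries R)ˣ) (r : R)
    (hr : r ^ d = PowerSeries.constantCoeff (p : PowerSeries R)) : ∃ q : (PowerSeries R)ˣ, q ^ d = p := by
  obtain ⟨q, hq, -⟩ := HenselianRing.is_henselian (I := Ideal.span {(PowerSeries.X : PowerSeries R)})
    (Polynomial.X ^ d - Polynomial.C (p : PowerSeries R)) (Polynomial.monic_X_pow_sub_C _ hd.ne') (PowerSeries.C r)
    (by
      rw [Ideal.mem_span_singleton, PowerSeries.X_dvd_iff]
      simp [hr])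
    (by
      refine IsUnit.map _ (PowerSeries.isUnit_iff_constantCoeff.2 ?_)
      simp only [Polynomial.derivative_sub, Polynomial.derivative_X_pow, Polynomial.derivative_C, sub_zero,
        Polynomial.eval_mul, Polynomial.eval_pow, Polynomial.eval_X, Polynomial.eval_C, Polynomial.eval_natCast, map_mul, map_natCast,
        map_pow, PowerSeries.constantCoeff_C]
      refine hdu.mul (IsUnit.pow _ ((isUnit_pow_iff hd.ne').1 ?_))
      rw [hr]
      exact p.isUnit.map _)
  have hq' : q ^ d = p := by simpa [sub_eq_zero] using hq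
  have hu : IsUnit q := (isUnit_pow_iff hd.ne').1 (hq' ▸ p.isUnit)
  exact ⟨hu.unit, Units.ext (by simpa using hq')⟩

omit [IsReduced R] [Nontrivial R] in
theorem eq_C_of_pow_eq_one {d : ℕ} (hd : 0 < d) (hdu : IsUnit (d : R)) (p : PowerSeries R) (hp : p ^ d = 1) :
    p = PowerSeries.C (PowerSeries.constantCoeff p) := by
  set c := PowerSeries.constantCoeff p with hc
  have hcd : c ^ d = 1 := by rw [hc, ← map_pow, hp, map_one]
  have hq : IsUnit (∑ l ∈ Finset.range d, p ^ l * (PowerSeries.C c) ^ (d - 1 - l)) := by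
    refine PowerSeries.isUnit_iff_constantCoeff.2 ?_
    rw [map_sum, Finset.sum_congr rfl (g := fun _ => c ^ (d - 1)) fun l hl => ?_, Finset.sum_const, Finset.card_range,
      nsmul_eq_mul]
    · exact hdu.mul ((IsUnit.of_pow_eq_one hcd hd.ne').pow _)
    · rw [map_mul, map_pow, map_pow, PowerSeries.constantCoeff_C, ← hc, ← pow_add]
      congr 1
      have := Finset.mem_range.1 hl
      omega
  refine sub_eq_zero.1 (hq.mul_right_eq_zero.1 ?_)
  rw [geom_sum₂_mul, hp, ← map_pow, hcd, map_one, sub_self]

include hconn in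
/-- The data needed for the cocycle computation. -/
theorem exists_data {d : ℕ} (hd : 0 < d) (hdu : IsUnit (d : R)) (z : Rˣ) (hz : z ^ d = 1)
    (hprim : ∀ j : ℕ, 0 < j → j < d → IsUnit ((z : R) ^ j - 1))
    (hroots : ∀ r : R, r ^ d = 1 → ∃ j : ℤ, ((z ^ j : Rˣ) : R) = r)
    (hroot : ∀ c : R, IsUnit c → ∃ r, r ^ d = c) :
    ∃ (val : LU R →+ ℤ) (κ : LU R →+ Additive Rˣ) (S Z η : LU R),
      sigU z S = S + Z ∧ sigU z Z = Z ∧ sigU z η = η ∧ (d : ℤ) • η = Z ∧ (∀ x, val (sigU z x) = val x) ∧
      val S = 1 ∧ val Z = 0 ∧ (d : ℤ) • Z = 0 ∧ (∀ x, val x = 0 → κ (sigU z x) = κ x) ∧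
      (∀ j : ℤ, j • κ Z = 0 → (d : ℤ) ∣ j) ∧ (∀ w, val w = 0 → ∃ c, (d : ℤ) • c = w) ∧
      (∀ w, (d : ℤ) • w = 0 → ∃ j : ℤ, j • Z = w) := by
  let cU : Rˣ →* (LaurentSeries R)ˣ := Units.map (HahnSeries.C (Γ := ℤ)).toMonoidHom
  let pU : (PowerSeries R)ˣ →* (LaurentSeries R)ˣ := Units.map (HahnSeries.ofPowerSeries ℤ R).toMonoidHom
  let S : LU R := Additive.ofMul
    ⟨HahnSeries.single 1 1, HahnSeries.single (-1) 1, by simp [HahnSeries.single_mul_single],
      by simp [HahnSeries.single_mul_single]⟩
  obtain ⟨r, hr⟩ := hroot z z.isUnit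
  have hru : IsUnit r := (isUnit_pow_iff hd.ne').1 (hr ▸ z.isUnit)
  have hC : ∀ c : Rˣ, ((cU c : (LaurentSeries R)ˣ) : LaurentSeries R) =
      mon 0 ((Units.map (PowerSeries.C (R := R)).toMonoidHom c : (PowerSeries R)ˣ) : PowerSeries R) := fun c => by
    simp [cU, mon, HahnSeries.ofPowerSeries_C]
  have hsigC : ∀ c : Rˣ, sigU z (Additive.ofMul (cU c)) = Additive.ofMul (cU c) := fun c =>
    congrArg Additive.ofMul (Units.ext (HahnSeries.ext (funext fun n => by
      show (sig z (HahnSeries.C (c : R))).coeff n = (HahnSeries.C (c : R)).coeff n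
      rw [sig_coeff, HahnSeries.C_apply, HahnSeries.coeff_single]
      split_ifs with h <;> simp [h])))
  have hsig : ∀ x, valU hconn (sigU z x) = valU hconn x ∧ (valU hconn x = 0 → cstU hconn (sigU z x) = cstU hconn x) := by
    intro x
    have h := eq_of_mon hconn (sigU z x) (ordU hconn x)
      (Units.map (PowerSeries.C (R := R)).toMonoidHom (z ^ ordU hconn x) *
        Units.map (PowerSeries.rescale (z : R)).toMonoidHom (serU hconn x)) (by
      show sig z ((x.toMul : (LaurentSeries R)ˣ) : LaurentSeries R) = _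
      rw [mon_spec hconn x, sig_mon]
      rfl)
    refine ⟨h.1, fun h0 => congrArg Additive.ofMul (Units.ext ?_)⟩
    show PowerSeries.constantCoeff (serU hconn (sigU z x) : PowerSeries R) = PowerSeries.constantCoeff (serU hconn x : PowerSeries R)
    change ordU hconn x = 0 at h0
    rw [h.2, h0, zpow_zero]
    have hcr : ∀ q : PowerSeries R, PowerSeries.constantCoeff (PowerSeries.rescale (z : R) q) = PowerSeries.constantCoeff q :=
      fun q => by
        rw [← PowerSeries.coeff_zero_eq_constantCoeff_apply, PowerSeries.coeff_rescale, pow_zero, one_mul,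
          PowerSeries.coeff_zero_eq_constantCoeff_apply]
    simp [hcr]
  have hZ0 := eq_of_mon hconn (Additive.ofMul (cU z)) 0 _ (hC z)
  refine ⟨valU hconn, cstU hconn, S, Additive.ofMul (cU z), Additive.ofMul (cU hru.unit), ?_, hsigC _, hsigC _, ?_,
    fun x => (hsig x).1, ?_, hZ0.1, ?_, fun x => (hsig x).2, ?_, ?_, ?_⟩
  · refine congrArg Additive.ofMul (Units.ext (HahnSeries.ext (funext fun n => ?_)))
    show (sig z (HahnSeries.single (1 : ℤ) 1)).coeff n = (HahnSeries.single (1 : ℤ) (1 : R) * HahnSeries.C (z : R)).coeff n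
    rw [sig_coeff, HahnSeries.C_apply, HahnSeries.single_mul_single, add_zero, one_mul, HahnSeries.coeff_single,
      HahnSeries.coeff_single]
    split_ifs with h <;> simp [h]
  · rw [← ofMul_zpow, zpow_natCast, ← map_pow, show hru.unit ^ d = z from Units.ext (by simpa using hr)]
  · exact (eq_of_mon hconn S 1 1 (by simp [S, mon])).1
  · rw [← ofMul_zpow, zpow_natCast, ← map_pow, hz, map_one]
    rfl
  · intro j hj
    have h : z ^ j = 1 := by
      have e : cstU hconn (Additive.ofMul (cU z)) = Additive.ofMul z := congrArg Additive.ofMul (Units.ext (by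
        show PowerSeries.constantCoeff (serU hconn _ : PowerSeries R) = _
        rw [hZ0.2]
        simp))
      rw [e, ← ofMul_zpow] at hj
      exact ofMul_eq_zero.1 hj
    rw [← Int.emod_add_mul_ediv j (d : ℤ), zpow_add, zpow_mul, zpow_natCast, hz, one_zpow, mul_one] at h
    refine Int.dvd_of_emod_eq_zero ?_
    have h1 := Int.emod_nonneg j (show (d : ℤ) ≠ 0 by omega)
    have h2 := Int.emod_lt_of_pos j (show (0 : ℤ) < d by omega)
    obtain ⟨i, hi⟩ := Int.eq_ofNat_of_zero_le h1
    rw [hi, zpow_natCast] at h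
    by_contra hne
    exact (hprim i (by omega) (by omega)).ne_zero (by rw [← Units.val_pow_eq_pow_val, h, Units.val_one, sub_self])
  · intro w hw
    obtain ⟨r', hr'⟩ := hroot _ ((serU hconn w).isUnit.map PowerSeries.constantCoeff)
    obtain ⟨q, hq⟩ := exists_root_series hd hdu (serU hconn w) r' hr'
    refine ⟨Additive.ofMul (pU q), Additive.toMul.injective (Units.ext ?_)⟩
    change ordU hconn w = 0 at hw
    rw [mon_spec hconn w, hw, ← hq, ← ofMul_zpow, zpow_natCast, ← map_pow]
    simp [pU, mon]
  · intro w hw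
    have hv : ordU hconn w = 0 := by
      have := congrArg (valU hconn) hw
      rw [map_zsmul, map_zero, smul_eq_zero] at this
      exact this.resolve_left (by omega)
    have hp : (serU hconn w : PowerSeries R) ^ d = 1 := by
      apply HahnSeries.ofPowerSeries_injective (Γ := ℤ) (R := R)
      have h1 : (w.toMul : (LaurentSeries R)ˣ) ^ d = 1 := by
        have := congrArg Additive.toMul hw
        rwa [toMul_zsmul, zpow_natCast, toMul_zero] at this
      have h2 := congrArg Units.val h1
      rw [Units.val_pow_eq_pow_val, mon_spec hconn w, hv, Units.val_one] at h2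
      simpa [mon] using h2
    have hc := eq_C_of_pow_eq_one hd hdu _ hp
    obtain ⟨j, hj⟩ := hroots (PowerSeries.constantCoeff (serU hconn w : PowerSeries R))
      (by rw [← map_pow, hp, map_one])
    refine ⟨j, Additive.toMul.injective (Units.ext ?_)⟩
    rw [mon_spec hconn w, hv, hc, ← hj, ← ofMul_zpow, ← map_zpow, toMul_ofMul, hC]
    rfl

end Groth.Agent.LaurTorus
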